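import Cfsg.Agent.Fi24Mult30.Checks.Branch0
import Cfsg.Agent.Fi24Mult30.Checks.Branch1
import Cfsg.Agent.Fi24Mult30.Checks.Branch2
import Cfsg.Agent.Fi24Mult30.Checks.Branch3
import Cfsg.Agent.Fi24Mult30.Checks.Branch4
import Cfsg.Agent.Fi24Mult30.Checks.Branch5
import Cfsg.Agent.Fi24Mult30.Checks.Branch6
import Cfsg.Agent.Fi24Mult30.Checks.Branch7
import Cfsg.Agent.Fi24Mult30.Checks.Branch8
import Cfsg.Agent.Fi24Mult30.Checks.Branch9
import Cfsg.Agent.Fi24Mult30.Checks.Branch10
import Cfsg.Agent.Fi24Mult30.Checks.Branch11
import Cfsg.Agent.Fi24Mult30.Checks.Branch12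
import Cfsg.Agent.Fi24Mult30.Checks.Branch13
import Cfsg.Agent.Fi24Mult30.Checks.Branch14
import Cfsg.Agent.Fi24Mult30.Checks.Branch15
import Cfsg.Agent.Fi24Mult30.Checks.Branch16
import Cfsg.Agent.Fi24Mult30.Checks.Branch17
import Cfsg.Agent.Fi24Mult30.Checks.Branch18
import Cfsg.Agent.Fi24Mult30.Checks.Branch19
import Cfsg.Agent.Fi24Mult30.Checks.Branch20
import Cfsg.Agent.Fi24Mult30.Checks.Branch21
import Cfsg.Agent.Fi24Mult30.Checks.Branch22
import Cfsg.Agent.Fi24Mult30.Checks.Branch23
import Cfsg.Agent.Fi24Mult30.Checks.Branch24
import Cfsg.Agent.Fi24Mult30.Checks.Branch25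
import Cfsg.Agent.Fi24Mult30.Checks.Branch26
import Cfsg.Agent.Fi24Mult30.Checks.Branch27
import Cfsg.Agent.Fi24Mult30.Checks.Branch28
import Cfsg.Agent.Fi24Mult30.Checks.Branch29

/-! Generated: the checked tables. -/

set_option autoImplicit false
set_option maxRecDepth 100000

namespace CfsgLib.Fi24Mult30.Tab

open CfsgLib.CosetEnum

theorem branch : ∀ i < 306936, checkVBranch i = true :=
  RangeChecked.all (RangeChecked.app 760 306936 (RangeChecked.app 1024 306176 (RangeChecked.app 1024 305152 (RangeChecked.app 1024 304128 (RangeChecked.app 1024 303104 (RangeChecked.app 1024 302080 (RangeChecked.app 1024 301056 (RangeChecked.app 1024 300032 (RangeChecked.app 1024 299008 (RangeChecked.app 1024 297984 (RangeChecked.app 1024 296960 (RangeChecked.app 1024 295936 (RangeChecked.app 1024 294912 (RangeChecked.app 1024 293888 (RangeChecked.app 1024 292864 (RangeChecked.app 1024 291840 (RangeChecked.app 1024 290816 (RangeChecked.app 1024 289792 (RangeChecked.app 1024 288768 (RangeChecked.app 1024 287744 (RangeChecked.app 1024 286720 (RangeChecked.app 1024 285696 (RangeChecked.app 1024 284672 (RangeChecked.app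 1024 283648 (RangeChecked.app 1024 282624 (RangeChecked.app 1024 281600 (RangeChecked.app 1024 280576 (RangeChecked.app 1024 279552 (RangeChecked.app 1024 278528 (RangeChecked.app 1024 277504 (RangeChecked.app 1024 276480 (RangeChecked.app 1024 275456 (RangeChecked.app 1024 274432 (RangeChecked.app 1024 273408 (RangeChecked.app 1024 272384 (RangeChecked.app 1024 271360 (RangeChecked.app 1024 270336 (RangeChecked.app 1024 269312 (RangeChecked.app 1024 268288 (RangeChecked.app 1024 267264 (RangeChecked.app 1024 266240 (RangeChecked.app 1024 265216 (RangeChecked.app 1024 264192 (RangeChecked.app 1024 263168 (RangeChecked.app 1024 262144 (RangeChecked.app 1024 261120 (RangeChecked.app 1024 260096 (RangeChecked.app 1024 259072 (RangeChecked.app 1024 258048 (RangeChecked.app 1024 257024 (RangeChecked.app 1024 256000 (RangeChecked.app 1024 254976 (RangeChecked.app 1024 253952 (RangeChecked.app 1024 252928 (RangeChecked.app 1024 251904 (RangeChecked.app 1024 250880 (RangeChecked.app 1024 249856 (RangeChecked.app 1024 248832 (RangeChecked.app 1024 247808 (RangeChecked.app 1024 246784 (RangeChecked.app 1024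 245760 (RangeChecked.app 1024 244736 (RangeChecked.app 1024 243712 (RangeChecked.app 1024 242688 (RangeChecked.app 1024 241664 (RangeChecked.app 1024 240640 (RangeChecked.app 1024 239616 (RangeChecked.app 1024 238592 (RangeChecked.app 1024 237568 (RangeChecked.app 1024 236544 (RangeChecked.app 1024 235520 (RangeChecked.app 1024 234496 (RangeChecked.app 1024 233472 (RangeChecked.app 1024 232448 (RangeChecked.app 1024 231424 (RangeChecked.app 1024 230400 (RangeChecked.app 1024 229376 (RangeChecked.app 1024 228352 (RangeChecked.app 1024 227328 (RangeChecked.app 1024 226304 (RangeChecked.app 1024 225280 (RangeChecked.app 1024 224256 (RangeChecked.app 1024 223232 (RangeChecked.app 1024 222208 (RangeChecked.app 1024 221184 (RangeChecked.app 1024 220160 (RangeChecked.app 1024 219136 (RangeChecked.app 1024 218112 (RangeChecked.app 1024 217088 (RangeChecked.app 1024 216064 (RangeChecked.app 1024 215040 (RangeChecked.app 1024 214016 (RangeChecked.app 1024 212992 (RangeChecked.app 1024 211968 (RangeChecked.app 1024 210944 (RangeChecked.app 1024 209920 (RangeChecked.app 1024 208896 (RangeChecked.app 1024 207872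 (RangeChecked.app 1024 206848 (RangeChecked.app 1024 205824 (RangeChecked.app 1024 204800 (RangeChecked.app 1024 203776 (RangeChecked.app 1024 202752 (RangeChecked.app 1024 201728 (RangeChecked.app 1024 200704 (RangeChecked.app 1024 199680 (RangeChecked.app 1024 198656 (RangeChecked.app 1024 197632 (RangeChecked.app 1024 196608 (RangeChecked.app 1024 195584 (RangeChecked.app 1024 194560 (RangeChecked.app 1024 193536 (RangeChecked.app 1024 192512 (RangeChecked.app 1024 191488 (RangeChecked.app 1024 190464 (RangeChecked.app 1024 189440 (RangeChecked.app 1024 188416 (RangeChecked.app 1024 187392 (RangeChecked.app 1024 186368 (RangeChecked.app 1024 185344 (RangeChecked.app 1024 184320 (RangeChecked.app 1024 183296 (RangeChecked.app 1024 182272 (RangeChecked.app 1024 181248 (RangeChecked.app 1024 180224 (RangeChecked.app 1024 179200 (RangeChecked.app 1024 178176 (RangeChecked.app 1024 177152 (RangeChecked.app 1024 176128 (RangeChecked.app 1024 175104 (RangeChecked.app 1024 174080 (RangeChecked.app 1024 173056 (RangeChecked.app 1024 172032 (RangeChecked.app 1024 171008 (RangeChecked.app 1024 169984 (RangeChecked.app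 1024 168960 (RangeChecked.app 1024 167936 (RangeChecked.app 1024 166912 (RangeChecked.app 1024 165888 (RangeChecked.app 1024 164864 (RangeChecked.app 1024 163840 (RangeChecked.app 1024 162816 (RangeChecked.app 1024 161792 (RangeChecked.app 1024 160768 (RangeChecked.app 1024 159744 (RangeChecked.app 1024 158720 (RangeChecked.app 1024 157696 (RangeChecked.app 1024 156672 (RangeChecked.app 1024 155648 (RangeChecked.app 1024 154624 (RangeChecked.app 1024 153600 (RangeChecked.app 1024 152576 (RangeChecked.app 1024 151552 (RangeChecked.app 1024 150528 (RangeChecked.app 1024 149504 (RangeChecked.app 1024 148480 (RangeChecked.app 1024 147456 (RangeChecked.app 1024 146432 (RangeChecked.app 1024 145408 (RangeChecked.app 1024 144384 (RangeChecked.app 1024 143360 (RangeChecked.app 1024 142336 (RangeChecked.app 1024 141312 (RangeChecked.app 1024 140288 (RangeChecked.app 1024 139264 (RangeChecked.app 1024 138240 (RangeChecked.app 1024 137216 (RangeChecked.app 1024 136192 (RangeChecked.app 1024 135168 (RangeChecked.app 1024 134144 (RangeChecked.app 1024 133120 (RangeChecked.app 1024 132096 (RangeChecked.app 1024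 131072 (RangeChecked.app 1024 130048 (RangeChecked.app 1024 129024 (RangeChecked.app 1024 128000 (RangeChecked.app 1024 126976 (RangeChecked.app 1024 125952 (RangeChecked.app 1024 124928 (RangeChecked.app 1024 123904 (RangeChecked.app 1024 122880 (RangeChecked.app 1024 121856 (RangeChecked.app 1024 120832 (RangeChecked.app 1024 119808 (RangeChecked.app 1024 118784 (RangeChecked.app 1024 117760 (RangeChecked.app 1024 116736 (RangeChecked.app 1024 115712 (RangeChecked.app 1024 114688 (RangeChecked.app 1024 113664 (RangeChecked.app 1024 112640 (RangeChecked.app 1024 111616 (RangeChecked.app 1024 110592 (RangeChecked.app 1024 109568 (RangeChecked.app 1024 108544 (RangeChecked.app 1024 107520 (RangeChecked.app 1024 106496 (RangeChecked.app 1024 105472 (RangeChecked.app 1024 104448 (RangeChecked.app 1024 103424 (RangeChecked.app 1024 102400 (RangeChecked.app 1024 101376 (RangeChecked.app 1024 100352 (RangeChecked.app 1024 99328 (RangeChecked.app 1024 98304 (RangeChecked.app 1024 97280 (RangeChecked.app 1024 96256 (RangeChecked.app 1024 95232 (RangeChecked.app 1024 94208 (RangeChecked.app 1024 93184 (RangeChecked.app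 1024 92160 (RangeChecked.app 1024 91136 (RangeChecked.app 1024 90112 (RangeChecked.app 1024 89088 (RangeChecked.app 1024 88064 (RangeChecked.app 1024 87040 (RangeChecked.app 1024 86016 (RangeChecked.app 1024 84992 (RangeChecked.app 1024 83968 (RangeChecked.app 1024 82944 (RangeChecked.app 1024 81920 (RangeChecked.app 1024 80896 (RangeChecked.app 1024 79872 (RangeChecked.app 1024 78848 (RangeChecked.app 1024 77824 (RangeChecked.app 1024 76800 (RangeChecked.app 1024 75776 (RangeChecked.app 1024 74752 (RangeChecked.app 1024 73728 (RangeChecked.app 1024 72704 (RangeChecked.app 1024 71680 (RangeChecked.app 1024 70656 (RangeChecked.app 1024 69632 (RangeChecked.app 1024 68608 (RangeChecked.app 1024 67584 (RangeChecked.app 1024 66560 (RangeChecked.app 1024 65536 (RangeChecked.app 1024 64512 (RangeChecked.app 1024 63488 (RangeChecked.app 1024 62464 (RangeChecked.app 1024 61440 (RangeChecked.app 1024 60416 (RangeChecked.app 1024 59392 (RangeChecked.app 1024 58368 (RangeChecked.app 1024 57344 (RangeChecked.app 1024 56320 (RangeChecked.app 1024 55296 (RangeChecked.app 1024 54272 (RangeChecked.app 1024 53248 (RangeChecked.app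 1024 52224 (RangeChecked.app 1024 51200 (RangeChecked.app 1024 50176 (RangeChecked.app 1024 49152 (RangeChecked.app 1024 48128 (RangeChecked.app 1024 47104 (RangeChecked.app 1024 46080 (RangeChecked.app 1024 45056 (RangeChecked.app 1024 44032 (RangeChecked.app 1024 43008 (RangeChecked.app 1024 41984 (RangeChecked.app 1024 40960 (RangeChecked.app 1024 39936 (RangeChecked.app 1024 38912 (RangeChecked.app 1024 37888 (RangeChecked.app 1024 36864 (RangeChecked.app 1024 35840 (RangeChecked.app 1024 34816 (RangeChecked.app 1024 33792 (RangeChecked.app 1024 32768 (RangeChecked.app 1024 31744 (RangeChecked.app 1024 30720 (RangeChecked.app 1024 29696 (RangeChecked.app 1024 28672 (RangeChecked.app 1024 27648 (RangeChecked.app 1024 26624 (RangeChecked.app 1024 25600 (RangeChecked.app 1024 24576 (RangeChecked.app 1024 23552 (RangeChecked.app 1024 22528 (RangeChecked.app 1024 21504 (RangeChecked.app 1024 20480 (RangeChecked.app 1024 19456 (RangeChecked.app 1024 18432 (RangeChecked.app 1024 17408 (RangeChecked.app 1024 16384 (RangeChecked.app 1024 15360 (RangeChecked.app 1024 14336 (RangeChecked.app 1024 13312 (RangeChecked.app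 1024 12288 (RangeChecked.app 1024 11264 (RangeChecked.app 1024 10240 (RangeChecked.app 1024 9216 (RangeChecked.app 1024 8192 (RangeChecked.app 1024 7168 (RangeChecked.app 1024 6144 (RangeChecked.app 1024 5120 (RangeChecked.app 1024 4096 (RangeChecked.app 1024 3072 (RangeChecked.app 1024 2048 (RangeChecked.app 1024 1024 RangeChecked.zero branch0 rfl) branch1024 rfl) branch2048 rfl) branch3072 rfl) branch4096 rfl) branch5120 rfl) branch6144 rfl) branch7168 rfl) branch8192 rfl) branch9216 rfl) branch10240 rfl) branch11264 rfl) branch12288 rfl) branch13312 rfl) branch14336 rfl) branch15360 rfl) branch16384 rfl) branch17408 rfl) branch18432 rfl) branch19456 rfl) branch20480 rfl) branch21504 rfl) branch22528 rfl) branch23552 rfl) branch24576 rfl) branch25600 rfl) branch26624 rfl) branch27648 rfl) branch28672 rfl) branch29696 rfl) branch30720 rfl) branch31744 rfl) branch32768 rfl) branch33792 rfl) branch34816 rfl) branch35840 rfl) branch36864 rfl) branch37888 rfl) branch38912 rfl) branch39936 rfl) branch40960 rfl) branch41984 rfl) branch43008 rfl) branch44032 rfl) branch45056 rfl) branch46080 rfl) branch47104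 rfl) branch48128 rfl) branch49152 rfl) branch50176 rfl) branch51200 rfl) branch52224 rfl) branch53248 rfl) branch54272 rfl) branch55296 rfl) branch56320 rfl) branch57344 rfl) branch58368 rfl) branch59392 rfl) branch60416 rfl) branch61440 rfl) branch62464 rfl) branch63488 rfl) branch64512 rfl) branch65536 rfl) branch66560 rfl) branch67584 rfl) branch68608 rfl) branch69632 rfl) branch70656 rfl) branch71680 rfl) branch72704 rfl) branch73728 rfl) branch74752 rfl) branch75776 rfl) branch76800 rfl) branch77824 rfl) branch78848 rfl) branch79872 rfl) branch80896 rfl) branch81920 rfl) branch82944 rfl) branch83968 rfl) branch84992 rfl) branch86016 rfl) branch87040 rfl) branch88064 rfl) branch89088 rfl) branch90112 rfl) branch91136 rfl) branch92160 rfl) branch93184 rfl) branch94208 rfl) branch95232 rfl) branch96256 rfl) branch97280 rfl) branch98304 rfl) branch99328 rfl) branch100352 rfl) branch101376 rfl) branch102400 rfl) branch103424 rfl) branch104448 rfl) branch105472 rfl) branch106496 rfl) branch107520 rfl) branch108544 rfl) branch109568 rfl) branch110592 rfl) branch111616 rfl) branch112640 rfl) branch113664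 rfl) branch114688 rfl) branch115712 rfl) branch116736 rfl) branch117760 rfl) branch118784 rfl) branch119808 rfl) branch120832 rfl) branch121856 rfl) branch122880 rfl) branch123904 rfl) branch124928 rfl) branch125952 rfl) branch126976 rfl) branch128000 rfl) branch129024 rfl) branch130048 rfl) branch131072 rfl) branch132096 rfl) branch133120 rfl) branch134144 rfl) branch135168 rfl) branch136192 rfl) branch137216 rfl) branch138240 rfl) branch139264 rfl) branch140288 rfl) branch141312 rfl) branch142336 rfl) branch143360 rfl) branch144384 rfl) branch145408 rfl) branch146432 rfl) branch147456 rfl) branch148480 rfl) branch149504 rfl) branch150528 rfl) branch151552 rfl) branch152576 rfl) branch153600 rfl) branch154624 rfl) branch155648 rfl) branch156672 rfl) branch157696 rfl) branch158720 rfl) branch159744 rfl) branch160768 rfl) branch161792 rfl) branch162816 rfl) branch163840 rfl) branch164864 rfl) branch165888 rfl) branch166912 rfl) branch167936 rfl) branch168960 rfl) branch169984 rfl) branch171008 rfl) branch172032 rfl) branch173056 rfl) branch174080 rfl) branch175104 rfl) branch176128 rfl) branch177152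 rfl) branch178176 rfl) branch179200 rfl) branch180224 rfl) branch181248 rfl) branch182272 rfl) branch183296 rfl) branch184320 rfl) branch185344 rfl) branch186368 rfl) branch187392 rfl) branch188416 rfl) branch189440 rfl) branch190464 rfl) branch191488 rfl) branch192512 rfl) branch193536 rfl) branch194560 rfl) branch195584 rfl) branch196608 rfl) branch197632 rfl) branch198656 rfl) branch199680 rfl) branch200704 rfl) branch201728 rfl) branch202752 rfl) branch203776 rfl) branch204800 rfl) branch205824 rfl) branch206848 rfl) branch207872 rfl) branch208896 rfl) branch209920 rfl) branch210944 rfl) branch211968 rfl) branch212992 rfl) branch214016 rfl) branch215040 rfl) branch216064 rfl) branch217088 rfl) branch218112 rfl) branch219136 rfl) branch220160 rfl) branch221184 rfl) branch222208 rfl) branch223232 rfl) branch224256 rfl) branch225280 rfl) branch226304 rfl) branch227328 rfl) branch228352 rfl) branch229376 rfl) branch230400 rfl) branch231424 rfl) branch232448 rfl) branch233472 rfl) branch234496 rfl) branch235520 rfl) branch236544 rfl) branch237568 rfl) branch238592 rfl) branch239616 rfl) branch240640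 rfl) branch241664 rfl) branch242688 rfl) branch243712 rfl) branch244736 rfl) branch245760 rfl) branch246784 rfl) branch247808 rfl) branch248832 rfl) branch249856 rfl) branch250880 rfl) branch251904 rfl) branch252928 rfl) branch253952 rfl) branch254976 rfl) branch256000 rfl) branch257024 rfl) branch258048 rfl) branch259072 rfl) branch260096 rfl) branch261120 rfl) branch262144 rfl) branch263168 rfl) branch264192 rfl) branch265216 rfl) branch266240 rfl) branch267264 rfl) branch268288 rfl) branch269312 rfl) branch270336 rfl) branch271360 rfl) branch272384 rfl) branch273408 rfl) branch274432 rfl) branch275456 rfl) branch276480 rfl) branch277504 rfl) branch278528 rfl) branch279552 rfl) branch280576 rfl) branch281600 rfl) branch282624 rfl) branch283648 rfl) branch284672 rfl) branch285696 rfl) branch286720 rfl) branch287744 rfl) branch288768 rfl) branch289792 rfl) branch290816 rfl) branch291840 rfl) branch292864 rfl) branch293888 rfl) branch294912 rfl) branch295936 rfl) branch296960 rfl) branch297984 rfl) branch299008 rfl) branch300032 rfl) branch301056 rfl) branch302080 rfl) branch303104 rfl) branch304128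 rfl) branch305152 rfl) branch306176 rfl)

end CfsgLib.Fi24Mult30.Tab
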