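import Cfsg.Agent.Fi24Mult30.Checks.Chain0
import Cfsg.Agent.Fi24Mult30.Checks.Chain1
import Cfsg.Agent.Fi24Mult30.Checks.Chain2
import Cfsg.Agent.Fi24Mult30.Checks.Chain3
import Cfsg.Agent.Fi24Mult30.Checks.Chain4
import Cfsg.Agent.Fi24Mult30.Checks.Chain5
import Cfsg.Agent.Fi24Mult30.Checks.Chain6
import Cfsg.Agent.Fi24Mult30.Checks.Chain7
import Cfsg.Agent.Fi24Mult30.Checks.Chain8
import Cfsg.Agent.Fi24Mult30.Checks.Chain9
import Cfsg.Agent.Fi24Mult30.Checks.Chain10
import Cfsg.Agent.Fi24Mult30.Checks.Chain11
import Cfsg.Agent.Fi24Mult30.Checks.Chain12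
import Cfsg.Agent.Fi24Mult30.Checks.Chain13
import Cfsg.Agent.Fi24Mult30.Checks.Chain14
import Cfsg.Agent.Fi24Mult30.Checks.Chain15
import Cfsg.Agent.Fi24Mult30.Checks.Chain16
import Cfsg.Agent.Fi24Mult30.Checks.Chain17
import Cfsg.Agent.Fi24Mult30.Checks.Chain18
import Cfsg.Agent.Fi24Mult30.Checks.Chain19
import Cfsg.Agent.Fi24Mult30.Checks.Chain20
import Cfsg.Agent.Fi24Mult30.Checks.Chain21
import Cfsg.Agent.Fi24Mult30.Checks.Chain22
import Cfsg.Agent.Fi24Mult30.Checks.Chain23
import Cfsg.Agent.Fi24Mult30.Checks.Chain24
import Cfsg.Agent.Fi24Mult30.Checks.Chain25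
import Cfsg.Agent.Fi24Mult30.Checks.Chain26
import Cfsg.Agent.Fi24Mult30.Checks.Chain27
import Cfsg.Agent.Fi24Mult30.Checks.Chain28
import Cfsg.Agent.Fi24Mult30.Checks.Chain29

/-! Generated: the checked tables. -/

set_option autoImplicit false
set_option maxRecDepth 100000

namespace CfsgLib.Fi24Mult30.Tab

open CfsgLib.CosetEnum

theorem chain : ∀ i < 306936, checkVChain i = true :=
  RangeChecked.all (RangeChecked.app 760 306936 (RangeChecked.app 1024 306176 (RangeChecked.app 1024 305152 (RangeChecked.app 1024 304128 (RangeChecked.app 1024 303104 (RangeChecked.app 1024 302080 (RangeChecked.app 1024 301056 (RangeChecked.app 1024 300032 (RangeChecked.app 1024 299008 (RangeChecked.app 1024 297984 (RangeChecked.app 1024 296960 (RangeChecked.app 1024 295936 (RangeChecked.app 1024 294912 (RangeChecked.app 1024 293888 (RangeChecked.app 1024 292864 (RangeChecked.app 1024 291840 (RangeChecked.app 1024 290816 (RangeChecked.app 1024 289792 (RangeChecked.app 1024 288768 (RangeChecked.app 1024 287744 (RangeChecked.app 1024 286720 (RangeChecked.app 1024 285696 (RangeChecked.app 1024 284672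 (RangeChecked.app 1024 283648 (RangeChecked.app 1024 282624 (RangeChecked.app 1024 281600 (RangeChecked.app 1024 280576 (RangeChecked.app 1024 279552 (RangeChecked.app 1024 278528 (RangeChecked.app 1024 277504 (RangeChecked.app 1024 276480 (RangeChecked.app 1024 275456 (RangeChecked.app 1024 274432 (RangeChecked.app 1024 273408 (RangeChecked.app 1024 272384 (RangeChecked.app 1024 271360 (RangeChecked.app 1024 270336 (RangeChecked.app 1024 269312 (RangeChecked.app 1024 268288 (RangeChecked.app 1024 267264 (RangeChecked.app 1024 266240 (RangeChecked.app 1024 265216 (RangeChecked.app 1024 264192 (RangeChecked.app 1024 263168 (RangeChecked.app 1024 262144 (RangeChecked.app 1024 261120 (RangeChecked.app 1024 260096 (RangeChecked.app 1024 259072 (RangeChecked.app 1024 258048 (RangeChecked.app 1024 257024 (RangeChecked.app 1024 256000 (RangeChecked.app 1024 254976 (RangeChecked.app 1024 253952 (RangeChecked.app 1024 252928 (RangeChecked.app 1024 251904 (RangeChecked.app 1024 250880 (RangeChecked.app 1024 249856 (RangeChecked.app 1024 248832 (RangeChecked.app 1024 247808 (RangeChecked.app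 1024 246784 (RangeChecked.app 1024 245760 (RangeChecked.app 1024 244736 (RangeChecked.app 1024 243712 (RangeChecked.app 1024 242688 (RangeChecked.app 1024 241664 (RangeChecked.app 1024 240640 (RangeChecked.app 1024 239616 (RangeChecked.app 1024 238592 (RangeChecked.app 1024 237568 (RangeChecked.app 1024 236544 (RangeChecked.app 1024 235520 (RangeChecked.app 1024 234496 (RangeChecked.app 1024 233472 (RangeChecked.app 1024 232448 (RangeChecked.app 1024 231424 (RangeChecked.app 1024 230400 (RangeChecked.app 1024 229376 (RangeChecked.app 1024 228352 (RangeChecked.app 1024 227328 (RangeChecked.app 1024 226304 (RangeChecked.app 1024 225280 (RangeChecked.app 1024 224256 (RangeChecked.app 1024 223232 (RangeChecked.app 1024 222208 (RangeChecked.app 1024 221184 (RangeChecked.app 1024 220160 (RangeChecked.app 1024 219136 (RangeChecked.app 1024 218112 (RangeChecked.app 1024 217088 (RangeChecked.app 1024 216064 (RangeChecked.app 1024 215040 (RangeChecked.app 1024 214016 (RangeChecked.app 1024 212992 (RangeChecked.app 1024 211968 (RangeChecked.app 1024 210944 (RangeChecked.app 1024 209920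 (RangeChecked.app 1024 208896 (RangeChecked.app 1024 207872 (RangeChecked.app 1024 206848 (RangeChecked.app 1024 205824 (RangeChecked.app 1024 204800 (RangeChecked.app 1024 203776 (RangeChecked.app 1024 202752 (RangeChecked.app 1024 201728 (RangeChecked.app 1024 200704 (RangeChecked.app 1024 199680 (RangeChecked.app 1024 198656 (RangeChecked.app 1024 197632 (RangeChecked.app 1024 196608 (RangeChecked.app 1024 195584 (RangeChecked.app 1024 194560 (RangeChecked.app 1024 193536 (RangeChecked.app 1024 192512 (RangeChecked.app 1024 191488 (RangeChecked.app 1024 190464 (RangeChecked.app 1024 189440 (RangeChecked.app 1024 188416 (RangeChecked.app 1024 187392 (RangeChecked.app 1024 186368 (RangeChecked.app 1024 185344 (RangeChecked.app 1024 184320 (RangeChecked.app 1024 183296 (RangeChecked.app 1024 182272 (RangeChecked.app 1024 181248 (RangeChecked.app 1024 180224 (RangeChecked.app 1024 179200 (RangeChecked.app 1024 178176 (RangeChecked.app 1024 177152 (RangeChecked.app 1024 176128 (RangeChecked.app 1024 175104 (RangeChecked.app 1024 174080 (RangeChecked.app 1024 173056 (RangeChecked.app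 1024 172032 (RangeChecked.app 1024 171008 (RangeChecked.app 1024 169984 (RangeChecked.app 1024 168960 (RangeChecked.app 1024 167936 (RangeChecked.app 1024 166912 (RangeChecked.app 1024 165888 (RangeChecked.app 1024 164864 (RangeChecked.app 1024 163840 (RangeChecked.app 1024 162816 (RangeChecked.app 1024 161792 (RangeChecked.app 1024 160768 (RangeChecked.app 1024 159744 (RangeChecked.app 1024 158720 (RangeChecked.app 1024 157696 (RangeChecked.app 1024 156672 (RangeChecked.app 1024 155648 (RangeChecked.app 1024 154624 (RangeChecked.app 1024 153600 (RangeChecked.app 1024 152576 (RangeChecked.app 1024 151552 (RangeChecked.app 1024 150528 (RangeChecked.app 1024 149504 (RangeChecked.app 1024 148480 (RangeChecked.app 1024 147456 (RangeChecked.app 1024 146432 (RangeChecked.app 1024 145408 (RangeChecked.app 1024 144384 (RangeChecked.app 1024 143360 (RangeChecked.app 1024 142336 (RangeChecked.app 1024 141312 (RangeChecked.app 1024 140288 (RangeChecked.app 1024 139264 (RangeChecked.app 1024 138240 (RangeChecked.app 1024 137216 (RangeChecked.app 1024 136192 (RangeChecked.app 1024 135168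 (RangeChecked.app 1024 134144 (RangeChecked.app 1024 133120 (RangeChecked.app 1024 132096 (RangeChecked.app 1024 131072 (RangeChecked.app 1024 130048 (RangeChecked.app 1024 129024 (RangeChecked.app 1024 128000 (RangeChecked.app 1024 126976 (RangeChecked.app 1024 125952 (RangeChecked.app 1024 124928 (RangeChecked.app 1024 123904 (RangeChecked.app 1024 122880 (RangeChecked.app 1024 121856 (RangeChecked.app 1024 120832 (RangeChecked.app 1024 119808 (RangeChecked.app 1024 118784 (RangeChecked.app 1024 117760 (RangeChecked.app 1024 116736 (RangeChecked.app 1024 115712 (RangeChecked.app 1024 114688 (RangeChecked.app 1024 113664 (RangeChecked.app 1024 112640 (RangeChecked.app 1024 111616 (RangeChecked.app 1024 110592 (RangeChecked.app 1024 109568 (RangeChecked.app 1024 108544 (RangeChecked.app 1024 107520 (RangeChecked.app 1024 106496 (RangeChecked.app 1024 105472 (RangeChecked.app 1024 104448 (RangeChecked.app 1024 103424 (RangeChecked.app 1024 102400 (RangeChecked.app 1024 101376 (RangeChecked.app 1024 100352 (RangeChecked.app 1024 99328 (RangeChecked.app 1024 98304 (RangeChecked.app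 1024 97280 (RangeChecked.app 1024 96256 (RangeChecked.app 1024 95232 (RangeChecked.app 1024 94208 (RangeChecked.app 1024 93184 (RangeChecked.app 1024 92160 (RangeChecked.app 1024 91136 (RangeChecked.app 1024 90112 (RangeChecked.app 1024 89088 (RangeChecked.app 1024 88064 (RangeChecked.app 1024 87040 (RangeChecked.app 1024 86016 (RangeChecked.app 1024 84992 (RangeChecked.app 1024 83968 (RangeChecked.app 1024 82944 (RangeChecked.app 1024 81920 (RangeChecked.app 1024 80896 (RangeChecked.app 1024 79872 (RangeChecked.app 1024 78848 (RangeChecked.app 1024 77824 (RangeChecked.app 1024 76800 (RangeChecked.app 1024 75776 (RangeChecked.app 1024 74752 (RangeChecked.app 1024 73728 (RangeChecked.app 1024 72704 (RangeChecked.app 1024 71680 (RangeChecked.app 1024 70656 (RangeChecked.app 1024 69632 (RangeChecked.app 1024 68608 (RangeChecked.app 1024 67584 (RangeChecked.app 1024 66560 (RangeChecked.app 1024 65536 (RangeChecked.app 1024 64512 (RangeChecked.app 1024 63488 (RangeChecked.app 1024 62464 (RangeChecked.app 1024 61440 (RangeChecked.app 1024 60416 (RangeChecked.app 1024 59392 (RangeChecked.app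 1024 58368 (RangeChecked.app 1024 57344 (RangeChecked.app 1024 56320 (RangeChecked.app 1024 55296 (RangeChecked.app 1024 54272 (RangeChecked.app 1024 53248 (RangeChecked.app 1024 52224 (RangeChecked.app 1024 51200 (RangeChecked.app 1024 50176 (RangeChecked.app 1024 49152 (RangeChecked.app 1024 48128 (RangeChecked.app 1024 47104 (RangeChecked.app 1024 46080 (RangeChecked.app 1024 45056 (RangeChecked.app 1024 44032 (RangeChecked.app 1024 43008 (RangeChecked.app 1024 41984 (RangeChecked.app 1024 40960 (RangeChecked.app 1024 39936 (RangeChecked.app 1024 38912 (RangeChecked.app 1024 37888 (RangeChecked.app 1024 36864 (RangeChecked.app 1024 35840 (RangeChecked.app 1024 34816 (RangeChecked.app 1024 33792 (RangeChecked.app 1024 32768 (RangeChecked.app 1024 31744 (RangeChecked.app 1024 30720 (RangeChecked.app 1024 29696 (RangeChecked.app 1024 28672 (RangeChecked.app 1024 27648 (RangeChecked.app 1024 26624 (RangeChecked.app 1024 25600 (RangeChecked.app 1024 24576 (RangeChecked.app 1024 23552 (RangeChecked.app 1024 22528 (RangeChecked.app 1024 21504 (RangeChecked.app 1024 20480 (RangeChecked.app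 1024 19456 (RangeChecked.app 1024 18432 (RangeChecked.app 1024 17408 (RangeChecked.app 1024 16384 (RangeChecked.app 1024 15360 (RangeChecked.app 1024 14336 (RangeChecked.app 1024 13312 (RangeChecked.app 1024 12288 (RangeChecked.app 1024 11264 (RangeChecked.app 1024 10240 (RangeChecked.app 1024 9216 (RangeChecked.app 1024 8192 (RangeChecked.app 1024 7168 (RangeChecked.app 1024 6144 (RangeChecked.app 1024 5120 (RangeChecked.app 1024 4096 (RangeChecked.app 1024 3072 (RangeChecked.app 1024 2048 (RangeChecked.app 1024 1024 RangeChecked.zero chain0 rfl) chain1024 rfl) chain2048 rfl) chain3072 rfl) chain4096 rfl) chain5120 rfl) chain6144 rfl) chain7168 rfl) chain8192 rfl) chain9216 rfl) chain10240 rfl) chain11264 rfl) chain12288 rfl) chain13312 rfl) chain14336 rfl) chain15360 rfl) chain16384 rfl) chain17408 rfl) chain18432 rfl) chain19456 rfl) chain20480 rfl) chain21504 rfl) chain22528 rfl) chain23552 rfl) chain24576 rfl) chain25600 rfl) chain26624 rfl) chain27648 rfl) chain28672 rfl) chain29696 rfl) chain30720 rfl) chain31744 rfl) chain32768 rfl) chain33792 rfl) chain34816 rfl) chain35840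 rfl) chain36864 rfl) chain37888 rfl) chain38912 rfl) chain39936 rfl) chain40960 rfl) chain41984 rfl) chain43008 rfl) chain44032 rfl) chain45056 rfl) chain46080 rfl) chain47104 rfl) chain48128 rfl) chain49152 rfl) chain50176 rfl) chain51200 rfl) chain52224 rfl) chain53248 rfl) chain54272 rfl) chain55296 rfl) chain56320 rfl) chain57344 rfl) chain58368 rfl) chain59392 rfl) chain60416 rfl) chain61440 rfl) chain62464 rfl) chain63488 rfl) chain64512 rfl) chain65536 rfl) chain66560 rfl) chain67584 rfl) chain68608 rfl) chain69632 rfl) chain70656 rfl) chain71680 rfl) chain72704 rfl) chain73728 rfl) chain74752 rfl) chain75776 rfl) chain76800 rfl) chain77824 rfl) chain78848 rfl) chain79872 rfl) chain80896 rfl) chain81920 rfl) chain82944 rfl) chain83968 rfl) chain84992 rfl) chain86016 rfl) chain87040 rfl) chain88064 rfl) chain89088 rfl) chain90112 rfl) chain91136 rfl) chain92160 rfl) chain93184 rfl) chain94208 rfl) chain95232 rfl) chain96256 rfl) chain97280 rfl) chain98304 rfl) chain99328 rfl) chain100352 rfl) chain101376 rfl) chain102400 rfl) chain103424 rfl) chain104448 rfl) chain105472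 rfl) chain106496 rfl) chain107520 rfl) chain108544 rfl) chain109568 rfl) chain110592 rfl) chain111616 rfl) chain112640 rfl) chain113664 rfl) chain114688 rfl) chain115712 rfl) chain116736 rfl) chain117760 rfl) chain118784 rfl) chain119808 rfl) chain120832 rfl) chain121856 rfl) chain122880 rfl) chain123904 rfl) chain124928 rfl) chain125952 rfl) chain126976 rfl) chain128000 rfl) chain129024 rfl) chain130048 rfl) chain131072 rfl) chain132096 rfl) chain133120 rfl) chain134144 rfl) chain135168 rfl) chain136192 rfl) chain137216 rfl) chain138240 rfl) chain139264 rfl) chain140288 rfl) chain141312 rfl) chain142336 rfl) chain143360 rfl) chain144384 rfl) chain145408 rfl) chain146432 rfl) chain147456 rfl) chain148480 rfl) chain149504 rfl) chain150528 rfl) chain151552 rfl) chain152576 rfl) chain153600 rfl) chain154624 rfl) chain155648 rfl) chain156672 rfl) chain157696 rfl) chain158720 rfl) chain159744 rfl) chain160768 rfl) chain161792 rfl) chain162816 rfl) chain163840 rfl) chain164864 rfl) chain165888 rfl) chain166912 rfl) chain167936 rfl) chain168960 rfl) chain169984 rfl) chain171008 rfl)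 chain172032 rfl) chain173056 rfl) chain174080 rfl) chain175104 rfl) chain176128 rfl) chain177152 rfl) chain178176 rfl) chain179200 rfl) chain180224 rfl) chain181248 rfl) chain182272 rfl) chain183296 rfl) chain184320 rfl) chain185344 rfl) chain186368 rfl) chain187392 rfl) chain188416 rfl) chain189440 rfl) chain190464 rfl) chain191488 rfl) chain192512 rfl) chain193536 rfl) chain194560 rfl) chain195584 rfl) chain196608 rfl) chain197632 rfl) chain198656 rfl) chain199680 rfl) chain200704 rfl) chain201728 rfl) chain202752 rfl) chain203776 rfl) chain204800 rfl) chain205824 rfl) chain206848 rfl) chain207872 rfl) chain208896 rfl) chain209920 rfl) chain210944 rfl) chain211968 rfl) chain212992 rfl) chain214016 rfl) chain215040 rfl) chain216064 rfl) chain217088 rfl) chain218112 rfl) chain219136 rfl) chain220160 rfl) chain221184 rfl) chain222208 rfl) chain223232 rfl) chain224256 rfl) chain225280 rfl) chain226304 rfl) chain227328 rfl) chain228352 rfl) chain229376 rfl) chain230400 rfl) chain231424 rfl) chain232448 rfl) chain233472 rfl) chain234496 rfl) chain235520 rfl) chain236544 rfl) chain237568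 rfl) chain238592 rfl) chain239616 rfl) chain240640 rfl) chain241664 rfl) chain242688 rfl) chain243712 rfl) chain244736 rfl) chain245760 rfl) chain246784 rfl) chain247808 rfl) chain248832 rfl) chain249856 rfl) chain250880 rfl) chain251904 rfl) chain252928 rfl) chain253952 rfl) chain254976 rfl) chain256000 rfl) chain257024 rfl) chain258048 rfl) chain259072 rfl) chain260096 rfl) chain261120 rfl) chain262144 rfl) chain263168 rfl) chain264192 rfl) chain265216 rfl) chain266240 rfl) chain267264 rfl) chain268288 rfl) chain269312 rfl) chain270336 rfl) chain271360 rfl) chain272384 rfl) chain273408 rfl) chain274432 rfl) chain275456 rfl) chain276480 rfl) chain277504 rfl) chain278528 rfl) chain279552 rfl) chain280576 rfl) chain281600 rfl) chain282624 rfl) chain283648 rfl) chain284672 rfl) chain285696 rfl) chain286720 rfl) chain287744 rfl) chain288768 rfl) chain289792 rfl) chain290816 rfl) chain291840 rfl) chain292864 rfl) chain293888 rfl) chain294912 rfl) chain295936 rfl) chain296960 rfl) chain297984 rfl) chain299008 rfl) chain300032 rfl) chain301056 rfl) chain302080 rfl) chain303104 rfl)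 chain304128 rfl) chain305152 rfl) chain306176 rfl)

end CfsgLib.Fi24Mult30.Tab
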